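import Groth.Agent.LimGrp.Subgroup
import Groth.Agent.LimGrp.Props
import Groth.Agent.LimLib.FGIdeal
import Groth.Agent.LimLib.StalkSystem

/-!
# Closed subobjects over the generic stalk have models over neighbourhoods
-/

set_option autoImplicit false
set_option backward.isDefEq.respectTransparency false
set_option backward.defeqAttrib.useBackward true

universe u

open CategoryTheory Limits AlgebraicGeometry MonoidalCategory CartesianMonoidalCategory

noncomputable section

namespace Groth.Agent.GrpSpread47

open LimGrp

/-- A closed immersion whose ideal is pulled back is a base change. -/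
theorem exists_iso_pullback {Y Y' Z Z' : Scheme.{u}} (p : Y' ⟶ Y) (v : Z ⟶ Y) [IsClosedImmersion v]
    (w : Z' ⟶ Y') [IsClosedImmersion w] (h : v.ker.comap p = w.ker) :
    ∃ e : Z' ≅ pullback p v, e.hom ≫ pullback.fst p v = w := by
  let v' := pullback.fst p v
  let J := v.ker
  let m : pullback p v ≅ pullback p J.subschemeι :=
    asIso (pullback.map p v p J.subschemeι (𝟙 _) v.toImage (𝟙 _) (by simp) (by
      rw [Category.comp_id]; exact v.toImage_imageι.symm))
  have hm : m.hom ≫ pullback.fst p J.subschemeι = v' := by simp [m, v', pullback.map]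
  let q : (J.comap p).subscheme ≅ w.ker.subscheme :=
    eqToIso (congrArg (fun K : Y'.IdealSheafData => K.subscheme) h)
  have hq : q.hom ≫ w.ker.subschemeι = (J.comap p).subschemeι := by
    have key : ∀ (K : Y'.IdealSheafData) (hK : J.comap p = K),
        (eqToIso (congrArg (fun K : Y'.IdealSheafData => K.subscheme) hK)).hom ≫ K.subschemeι =
          (J.comap p).subschemeι := by
      intro K hK; subst hK; simp
    exact key _ h
  refine ⟨asIso w.toImage ≪≫ q.symm ≪≫ J.comapIso p ≪≫ m.symm, ?_⟩
  simp only [Iso.trans_hom, Iso.symm_hom, asIso_hom, Category.assoc]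
  have h1 : m.inv ≫ pullback.fst p v = pullback.fst p J.subschemeι := by
    rw [Iso.inv_comp_eq]; exact hm.symm
  rw [h1, Scheme.IdealSheafData.comapIso_hom_fst, ← hq, Iso.inv_hom_id_assoc]
  exact w.toImage_imageι

variable {S : Scheme.{u}} (G : Over S) {T₀ : Scheme.{u}} (η : T₀ ⟶ S) {Hη : Over T₀}
  (i : Hη ⟶ Red.bc η G)

/-- A model of `i` over `f : T ⟶ S`. -/
structure Model {T : Scheme.{u}} (f : T ⟶ S) where
  p : T₀ ⟶ T
  w : p ≫ f = η
  H : Over T
  v : H ⟶ Red.bc f G
  closed : IsClosedImmersion v.left
  lfp : LocallyOfFinitePresentation v.left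
  e : Red.bc p H ≅ Hη
  fac : e.hom ≫ i = (Over.pullback p).map v ≫ (cmp w G).hom

variable {G η i}

theorem isClosedImmersion_map {T U : Scheme.{u}} (g : U ⟶ T) {A B : Over T} (v : A ⟶ B)
    [IsClosedImmersion v.left] : IsClosedImmersion ((Over.pullback g).map v).left := by
  have hsq : IsPullback (pullback.fst A.hom g) ((Over.pullback g).map v).left v.left
      (pullback.fst B.hom g) := by
    refine IsPullback.of_bot ?_ (bc_map_fst g v).symm (IsPullback.of_hasPullback B.hom g)
    rw [show ((Over.pullback g).map v).left ≫ pullback.snd B.hom g = pullback.snd A.hom g from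
      Over.w ((Over.pullback g).map v), Over.w]
    exact IsPullback.of_hasPullback A.hom g
  exact MorphismProperty.of_isPullback hsq inferInstance

theorem lfp_map {T U : Scheme.{u}} (g : U ⟶ T) {A B : Over T} (v : A ⟶ B)
    [LocallyOfFinitePresentation v.left] : LocallyOfFinitePresentation ((Over.pullback g).map v).left := by
  have hsq : IsPullback (pullback.fst A.hom g) ((Over.pullback g).map v).left v.left
      (pullback.fst B.hom g) := by
    refine IsPullback.of_bot ?_ (bc_map_fst g v).symm (IsPullback.of_hasPullback B.hom g)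
    rw [show ((Over.pullback g).map v).left ≫ pullback.snd B.hom g = pullback.snd A.hom g from
      Over.w ((Over.pullback g).map v), Over.w]
    exact IsPullback.of_hasPullback A.hom g
  exact MorphismProperty.of_isPullback hsq inferInstance

/-- Pull a model back. -/
def Model.bc {T U : Scheme.{u}} {f : T ⟶ S} (M : Model G η i f) (g : U ⟶ T) (f' : U ⟶ S)
    (hf : g ≫ f = f') (p : T₀ ⟶ U) (hp : p ≫ g = M.p) : Model G η i f' where
  p := p
  w := by rw [← hf, ← Category.assoc, hp, M.w]
  H := Red.bc g M.H
  v := (Over.pullback g).map M.v ≫ (cmp hf G).hom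
  closed := by
    haveI := M.closed
    haveI := isClosedImmersion_map g M.v
    haveI : IsIso (cmp hf G).hom.left := inferInstanceAs (IsIso ((Over.forget U).map (cmp hf G).hom))
    rw [Over.comp_left]
    infer_instance
  lfp := by
    haveI := M.lfp
    haveI := lfp_map g M.v
    haveI : IsIso (cmp hf G).hom.left := inferInstanceAs (IsIso ((Over.forget U).map (cmp hf G).hom))
    rw [Over.comp_left]
    infer_instance
  e := cmp hp M.H ≪≫ M.e
  fac := by
    rw [Iso.trans_hom, Category.assoc, M.fac, Functor.map_comp, Category.assoc,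
      ← reassoc_of% cmp_natural hp M.v]
    congr 1
    refine bc_hom_ext ?_
    simp only [Over.comp_left, Category.assoc, cmp_fst]
    rw [reassoc_of% cmp_fst hp (Red.bc f G), reassoc_of% bc_map_fst p (cmp hf G).hom]
    rw [cmp_fst]

/-- The pullback square of a model. -/
theorem Model.isPullback {T : Scheme.{u}} {f : T ⟶ S} (M : Model G η i f) :
    IsPullback (M.e.inv.left ≫ pullback.fst M.H.hom M.p) Hη.hom M.H.hom M.p := by
  refine IsPullback.of_iso_pullback ⟨?_⟩ ((Over.forget T₀).mapIso M.e.symm) rfl (Over.w M.e.inv)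
  rw [Category.assoc, pullback.condition, ← Category.assoc]
  exact congrArg (· ≫ M.p) (Over.w M.e.inv)

theorem Model.comm {T : Scheme.{u}} {f : T ⟶ S} (M : Model G η i f) :
    (M.e.inv.left ≫ pullback.fst M.H.hom M.p) ≫ M.v.left ≫ pullback.fst G.hom f =
      i.left ≫ pullback.fst G.hom η := by
  have h : i.left = M.e.inv.left ≫ ((Over.pullback M.p).map M.v).left ≫ (cmp M.w G).hom.left := by
    rw [← Over.comp_left, ← Over.comp_left, ← M.fac, Iso.inv_hom_id_assoc]
  rw [h, Category.assoc, Category.assoc, Category.assoc, cmp_fst, reassoc_of% bc_map_fst M.p M.v]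

end Groth.Agent.GrpSpread47

end
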