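import Groth.Agent.GrpSpread47.Model
import Groth.Agent.LimGrp.Quot

/-!
# Models of subgroups over the stages of a limit
-/

set_option autoImplicit false
set_option backward.isDefEq.respectTransparency false
set_option backward.defeqAttrib.useBackward true

universe u

open CategoryTheory Limits AlgebraicGeometry MonoidalCategory CartesianMonoidalCategory

noncomputable section

namespace Groth.Agent.GrpSpread47

open LimGrp

theorem map_eq_comap_of_iso {A B : Scheme.{u}} (e : A ≅ B) (K : B.IdealSheafData) :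
    K.map e.inv = K.comap e.hom := by
  apply le_antisymm
  · have h : ((K.map e.inv).comap e.inv).comap e.hom = K.map e.inv := by
      rw [← Scheme.IdealSheafData.comap_comp, e.hom_inv_id, Scheme.IdealSheafData.comap_id]
    rw [← h]
    exact Scheme.IdealSheafData.comap_mono _ (Scheme.IdealSheafData.comap_map_le _ _)
  · rw [Scheme.IdealSheafData.le_map_iff_comap_le, ← Scheme.IdealSheafData.comap_comp, e.inv_hom_id,
      Scheme.IdealSheafData.comap_id]

open MonObj in
theorem subgroupAt_of_iso {T T' : Scheme.{u}} (g : T' ⟶ T) {G H : Over T} [GrpObj G]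
    (v : H ⟶ G) [IsClosedImmersion v.left] {K : Over T'} [GrpObj K]
    (i : K ⟶ Red.bc g G) [IsMonHom i] (e : Red.bc g H ≅ K)
    (he : e.hom ≫ i = (Over.pullback g).map v) : SubgroupAt v g := by
  haveI := isClosedImmersion_map g v
  haveI : Mono ((Over.pullback g).map v) := (Over.forget T').mono_of_mono_map
    (inferInstanceAs (Mono ((Over.pullback g).map v).left))
  have hi : e.inv ≫ (Over.pullback g).map v = i := by rw [← he, Iso.inv_hom_id_assoc]
  obtain ⟨gH, hgH⟩ := GrpScheme.SubgroupObj.exists_grpObj ((Over.pullback g).map v)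
    ⟨(e.hom ⊗ₘ e.hom) ≫ μ[K] ≫ e.inv, by
      rw [Category.assoc, Category.assoc, hi, IsMonHom.mul_hom, ← Category.assoc,
        MonoidalCategory.tensorHom_comp_tensorHom, he]⟩
    ⟨η[K] ≫ e.inv, by rw [Category.assoc, hi, IsMonHom.one_hom]⟩
    ⟨e.hom ≫ GrpObj.inv (X := K) ≫ e.inv, by
      rw [Category.assoc, Category.assoc, hi, ← he, Category.assoc]
      congr 1
      exact GrpObj.inv_hom i⟩
  letI := gH
  haveI := hgH
  exact subgroupAt_of_grpObj v g

section Stalk

variable {I : Type u} [SmallCategory I] [IsCofiltered I] {D : I ⥤ Scheme.{u}} {c : Cone D}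
  (hc : IsLimit c) [∀ i, IsAffine (D.obj i)] {S : Scheme.{u}}
  (r : D ⟶ (Functor.const I).obj S) {G : Over S} {b : c.pt ⟶ S}

include hc in
/-- A closed subscheme with finitely generated ideal over the limit comes from a stage. -/
theorem exists_model_stage [IsAffineHom G.hom] [LocallyOfFiniteType G.hom] [IsLocallyNoetherian c.pt]
    (hb : ∀ j : I, c.π.app j ≫ r.app j = b) {Hη : Over c.pt} (i : Hη ⟶ Red.bc b G)
    [IsClosedImmersion i.left] :
    ∃ j : I, Nonempty {M : Model G b i (r.app j) // M.p = c.π.app j} := by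
  obtain ⟨i₀⟩ := IsCofiltered.nonempty (C := I)
  haveI : ∀ (a b : I) (f : a ⟶ b), IsAffineHom (D.map f) := fun a b f => inferInstance
  haveI : IsAffineHom (Red.bc (r.app i₀) G).hom := MorphismProperty.pullback_snd G.hom _ inferInstance
  haveI : LocallyOfFiniteType (Red.bc (r.app i₀) G).hom := MorphismProperty.pullback_snd G.hom _ inferInstance
  generalize hG₀ : Red.bc (r.app i₀) G = G₀ at *
  haveI : ∀ a, IsAffine ((LimLib.bcDiag D i₀ G₀.hom).obj a) := fun a =>
    haveI : IsAffineHom (pullback.snd G₀.hom (D.map a.hom)) :=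
      MorphismProperty.pullback_snd G₀.hom (D.map a.hom) inferInstance
    isAffine_of_isAffineHom (pullback.snd G₀.hom (D.map a.hom))
  haveI : ∀ (a b : Over i₀) (f : a ⟶ b), IsAffineHom ((LimLib.bcDiag D i₀ G₀.hom).map f) :=
    fun a b f => inferInstance
  haveI : IsLocallyNoetherian (((Functor.const I).obj c.pt).obj i₀) := inferInstanceAs (IsLocallyNoetherian c.pt)
  haveI hlt : LocallyOfFiniteType (pullback.snd G₀.hom (c.π.app i₀)) :=
    MorphismProperty.pullback_snd G₀.hom _ inferInstance
  haveI : IsLocallyNoetherian (Red.bc (c.π.app i₀) G₀).left :=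
    @LocallyOfFiniteType.isLocallyNoetherian _ _ (pullback.snd G₀.hom (c.π.app i₀)) hlt _
  subst hG₀
  let G₀ := Red.bc (r.app i₀) G
  let C₀ := cmp (hb i₀) G
  let i₁ : Hη ⟶ Red.bc (c.π.app i₀) G₀ := i ≫ C₀.inv
  haveI : IsClosedImmersion i₁.left := by
    haveI : IsIso C₀.inv.left := inferInstanceAs (IsIso ((Over.forget _).map C₀.inv))
    rw [Over.comp_left]
    infer_instance
  have hfg : ∀ U, (i₁.left.ker.ideal U).FG := fun U =>
    haveI : IsNoetherianRing Γ((Red.bc (c.π.app i₀) G₀).left, U.1) := IsLocallyNoetherian.component_noetherian U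
    IsNoetherian.noetherian _
  obtain ⟨a, 𝒢, h𝒢, hK⟩ := LimLib.exists_fg_descend
    (LimLib.isLimitBcCone hc (IsPullback.of_hasPullback G₀.hom (c.π.app i₀))) i₁.left.ker hfg
  let G₁ : Over (D.obj a.left) := Red.bc (D.map a.hom) G₀
  have hω : D.map a.hom ≫ r.app i₀ = r.app a.left := by simpa using r.naturality a.hom
  let H : Over (D.obj a.left) := Over.mk (𝒢.subschemeι ≫ G₁.hom)
  let u : H ⟶ G₁ := Over.homMk 𝒢.subschemeι rfl
  haveI : IsClosedImmersion u.left := inferInstanceAs (IsClosedImmersion 𝒢.subschemeι)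
  haveI : LocallyOfFinitePresentation u.left := (LimLib.lfp_subschemeι_iff 𝒢).mpr h𝒢
  let C₁ := cmp (c.w a.hom) G₀
  let p := pullback.fst G₁.hom (c.π.app a.left)
  let w := (i₁ ≫ C₁.inv).left
  haveI : IsClosedImmersion w := by
    haveI : IsIso C₁.inv.left := inferInstanceAs (IsIso ((Over.forget _).map C₁.inv))
    show IsClosedImmersion (i₁ ≫ C₁.inv).left
    rw [Over.comp_left]
    infer_instance
  have hker : u.left.ker.comap p = w.ker := by
    have h1 : p = C₁.hom.left ≫ (objCone (c := c) G₀).π.app a := (cmp_comp_π G₀ a.hom).symm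
    have h2 : w.ker = i₁.left.ker.map C₁.inv.left := by
      show (i₁ ≫ C₁.inv).left.ker = _
      rw [Over.comp_left, Scheme.Hom.ker_comp]
    rw [show u.left.ker = 𝒢 from Scheme.IdealSheafData.ker_subschemeι 𝒢, h1, h2]
    refine (Scheme.IdealSheafData.comap_comp 𝒢 C₁.hom.left _).trans ?_
    refine (congrArg (fun K : (Red.bc (c.π.app i₀) G₀).left.IdealSheafData => K.comap C₁.hom.left) hK).trans ?_
    exact (map_eq_comap_of_iso ((Over.forget _).mapIso C₁) i₁.left.ker).symm
  obtain ⟨e₀, he₀⟩ := exists_iso_pullback p u.left w hker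
  have hsq : IsPullback ((Over.pullback (c.π.app a.left)).map u).left (pullback.fst H.hom (c.π.app a.left)) p
      u.left := (isPullback_map_left (c.π.app a.left) u).flip
  let E := hsq.isoPullback ≪≫ e₀.symm
  have hE : E.hom ≫ w = ((Over.pullback (c.π.app a.left)).map u).left := by
    show (hsq.isoPullback.hom ≫ e₀.inv) ≫ w = _
    rw [← he₀, Category.assoc, Iso.inv_hom_id_assoc, IsPullback.isoPullback_hom_fst]
  let e : Red.bc (c.π.app a.left) H ≅ Hη := Over.isoMk E (by
    rw [← Over.w (i₁ ≫ C₁.inv), ← Category.assoc, hE]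
    exact Over.w ((Over.pullback (c.π.app a.left)).map u))
  have he : e.hom ≫ i₁ ≫ C₁.inv = (Over.pullback (c.π.app a.left)).map u := Over.OverMorphism.ext hE
  haveI : IsIso (cmp hω G).hom.left := inferInstanceAs (IsIso ((Over.forget _).map (cmp hω G).hom))
  refine ⟨a.left, ⟨⟨
    { p := c.π.app a.left
      w := hb a.left
      H := H
      v := u ≫ (cmp hω G).hom
      closed := by rw [Over.comp_left]; infer_instance
      lfp := by rw [Over.comp_left]; infer_instance
      e := e
      fac := ?_ }, rfl⟩⟩⟩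
  have hcc : (Over.pullback (c.π.app a.left)).map (cmp hω G).hom ≫ (cmp (hb a.left) G).hom = C₁.hom ≫ C₀.hom := by
    refine bc_hom_ext ?_
    simp only [Over.comp_left, Category.assoc, C₀, C₁, cmp_fst]
    rw [reassoc_of% cmp_fst (c.w a.hom) G₀, reassoc_of% bc_map_fst (c.π.app a.left) (cmp hω G).hom, cmp_fst]
  rw [Functor.map_comp, Category.assoc, hcc, ← he]
  simp [i₁]

/-- Transport of `SubgroupAt` data along a model. -/
theorem subgroupAt_of_model {T : Scheme.{u}} {f : T ⟶ S} {T₀ : Scheme.{u}} {q : T₀ ⟶ S} [GrpObj G]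
    {Hη : Over T₀} [GrpObj Hη] {i : Hη ⟶ Red.bc q G} [IsMonHom i] (M : Model G q i f) :
    SubgroupAt M.v M.p := by
  haveI := M.closed
  haveI : IsMonHom (cmp M.w G).hom := isMonHom_cmp M.w G
  haveI : IsMonHom (cmp M.w G).inv := inferInstance
  refine subgroupAt_of_iso M.p M.v (i ≫ (cmp M.w G).inv) M.e ?_
  rw [← Category.assoc, M.fac, Category.assoc, Iso.hom_inv_id, Category.comp_id]

include hc in
/-- A model of a subgroup is a subgroup over some finer stage. -/
theorem exists_subgroup_stage [GrpObj G] [IsAffineHom G.hom] [LocallyOfFinitePresentation G.hom]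
    {Hη : Over c.pt} [GrpObj Hη] {i : Hη ⟶ Red.bc b G} [IsMonHom i] {j : I}
    (M : Model G b i (r.app j)) (hM : M.p = c.π.app j) :
    ∃ k : I, ∃ M' : Model G b i (r.app k), M'.p = c.π.app k ∧ ∃ _ : GrpObj M'.H, IsMonHom M'.v := by
  haveI : ∀ (a a' : I) (f : a ⟶ a'), IsAffineHom (D.map f) := fun a a' f => inferInstance
  haveI := M.closed
  haveI := M.lfp
  haveI : IsAffineHom (Red.bc (r.app j) G).hom := MorphismProperty.pullback_snd G.hom _ inferInstance
  haveI : LocallyOfFinitePresentation (Red.bc (r.app j) G).hom :=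
    MorphismProperty.pullback_snd G.hom _ inferInstance
  haveI : IsAffineHom M.H.hom := by rw [← Over.w M.v]; infer_instance
  haveI : LocallyOfFinitePresentation M.H.hom := by rw [← Over.w M.v]; infer_instance
  obtain ⟨k, φ, hk⟩ := (desc_subgroupAt hc M.v).descends (hM ▸ subgroupAt_of_model M)
  obtain ⟨gH, hgH⟩ := exists_grpObj_of_subgroupAt M.v (D.map φ) hk
  have hφ : D.map φ ≫ r.app j = r.app k := by simpa using r.naturality φ
  refine ⟨k, M.bc (D.map φ) (r.app k) hφ (c.π.app k) ((c.w φ).trans hM.symm), rfl, gH, ?_⟩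
  letI := gH
  haveI := hgH
  haveI := isMonHom_cmp hφ G
  exact inferInstanceAs (IsMonHom ((Over.pullback (D.map φ)).map M.v ≫ (cmp hφ G).hom))

end Stalk

end Groth.Agent.GrpSpread47

end
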